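import Mathlib.FieldTheory.PerfectClosure
import Mathlib.RingTheory.Flat.EquationalCriterion
import Mathlib.RingTheory.Flat.Basic
import Mathlib.LinearAlgebra.TensorProduct.RightExactness
import Mathlib.RingTheory.TensorProduct.Basic
import Mathlib.RingTheory.MvPolynomial.Basic
import Mathlib.Algebra.CharP.Algebra
import Mathlib.RingTheory.Ideal.Quotient.Operations

/-!
# Tor between perfect algebras

For perfect algebras `B`, `C` over a perfect ring `A`, tensoring a flat resolution of `C` with `B` stays exact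
in positive degrees.
-/

set_option autoImplicit false
set_option linter.style.haveILetI false

universe u

open TensorProduct

namespace Groth.Agent.PerfTor23

/-- A perfect ring of characteristic dividing `p`. -/
structure Perf (p : ℕ) (B : Type u) [CommRing B] : Prop where
  char : (p : B) = 0
  bij : Function.Bijective fun b : B => b ^ p

section roots

variable {p : ℕ} {B : Type u} [CommRing B] (hB : Perf p B)

/-- The `p`-th root. -/
noncomputable def rt : B → B := (Equiv.ofBijective _ hB.bij).symm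

theorem rt_pow (b : B) : rt hB b ^ p = b := (Equiv.ofBijective _ hB.bij).apply_symm_apply b

include hB

theorem inj {a b : B} (h : a ^ p = b ^ p) : a = b := hB.bij.1 h

theorem add_pow' [hp : Fact p.Prime] (a b : B) : (a + b) ^ p = a ^ p + b ^ p := by
  obtain ⟨r, hr⟩ := exists_add_pow_prime_eq hp.out a b
  rw [hr, hB.char, zero_mul, zero_mul, zero_mul, add_zero]

theorem rt_add [Fact p.Prime] (a b : B) : rt hB (a + b) = rt hB a + rt hB b :=
  inj hB (by rw [add_pow' hB, rt_pow, rt_pow, rt_pow])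

theorem rt_mul (a b : B) : rt hB (a * b) = rt hB a * rt hB b := inj hB (by rw [mul_pow, rt_pow, rt_pow, rt_pow])

theorem iterate_rt_pow (n : ℕ) (b : B) : (rt hB)^[n] b ^ (p ^ n) = b := by
  induction n with
  | zero => simp
  | succ n ih => rw [Function.iterate_succ_apply', pow_succ', pow_mul, rt_pow, ih]

theorem inj_pow (n : ℕ) {a b : B} (h : a ^ (p ^ n) = b ^ (p ^ n)) : a = b := by
  induction n with
  | zero => simpa using h
  | succ n ih => exact ih (inj hB (by rwa [← pow_mul, ← pow_mul, ← pow_succ]))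

theorem isReduced [hp : Fact p.Prime] : IsReduced B := ⟨fun x hx => by
  obtain ⟨n, hn⟩ := hx
  obtain ⟨k, hk⟩ : ∃ k, n ≤ p ^ k := ⟨n, (Nat.lt_pow_self hp.out.one_lt).le⟩
  refine inj_pow hB k ?_
  rw [zero_pow (pow_ne_zero _ hp.out.ne_zero), ← Nat.add_sub_of_le hk, pow_add, hn, zero_mul]⟩

theorem annihilator_root [hp : Fact p.Prime] {g g' b : B} (hg : g' ^ p = g) (h : g * b = 0) : g' * b = 0 := by
  refine inj hB ?_
  rw [mul_pow, hg, zero_pow hp.out.ne_zero, ← Nat.succ_pred_eq_of_pos hp.out.pos, pow_succ', ← mul_assoc, h,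
    zero_mul]

end roots

section tensor

variable {p : ℕ} [hp : Fact p.Prime] {A B C : Type u} [CommRing A] [CommRing B] [CommRing C] [Algebra A B]
  [Algebra A C] (hA : Perf p A) (hB : Perf p B) (hC : Perf p C)

/-- Multiplication on the first factor. -/
noncomputable def mulL (e : B) (N : Type u) [AddCommGroup N] [Module A N] : B ⊗[A] N →ₗ[A] B ⊗[A] N :=
  (LinearMap.mulLeft A e).rTensor N

theorem mulL_tmul (e : B) {N : Type u} [AddCommGroup N] [Module A N] (b : B) (q : N) :
    mulL e N (b ⊗ₜ[A] q) = (e * b) ⊗ₜ q := rfl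

theorem mulL_mul (a b : B) (N : Type u) [AddCommGroup N] [Module A N] (z : B ⊗[A] N) :
    mulL a N (mulL b N z) = mulL (A := A) (a * b) N z := by
  unfold mulL
  rw [← LinearMap.comp_apply, ← LinearMap.rTensor_comp, LinearMap.mulLeft_mul]

theorem mulL_lTensor {N N' : Type u} [AddCommGroup N] [Module A N] [AddCommGroup N'] [Module A N'] (e : B)
    (f : N →ₗ[A] N') (z : B ⊗[A] N) : f.lTensor B (mulL e N z) = mulL e N' (f.lTensor B z) := by
  unfold mulL
  rw [← LinearMap.comp_apply, ← LinearMap.comp_apply, LinearMap.lTensor_comp_rTensor,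
    LinearMap.rTensor_comp_lTensor]

theorem mulL_eq_zero_of_flat {N : Type u} [AddCommGroup N] [Module A N] [Module.Flat A N] {e e' : B}
    (h : ∀ b : B, e * b = 0 → e' * b = 0) (z : B ⊗[A] N) (hz : mulL e N z = 0) : mulL (A := A) e' N z = 0 := by
  obtain ⟨w, rfl⟩ := (Module.Flat.rTensor_exact N (LinearMap.exact_subtype_ker_map (LinearMap.mulLeft A e)) z).1 hz
  have h0 : (LinearMap.mulLeft A e').comp (LinearMap.ker (LinearMap.mulLeft A e)).subtype = 0 :=
    LinearMap.ext fun b => h b.1 b.2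
  unfold mulL
  rw [← LinearMap.comp_apply, ← LinearMap.rTensor_comp, h0, LinearMap.rTensor_zero, LinearMap.zero_apply]

include hA hB hC in
/-- Killing by an element of a tensor product of perfect algebras passes to its roots. -/
theorem mulL_root_eq_zero {g g' : B} (hg : g' ^ p = g) (z : B ⊗[A] C) (hz : mulL g C z = 0) :
    mulL (A := A) g' C z = 0 := by
  have hpT : (p : B ⊗[A] C) = 0 := by
    rw [← map_natCast (algebraMap B (B ⊗[A] C)), hB.char, map_zero]
  have hadd : ∀ a b : B ⊗[A] C, (a + b) ^ p = a ^ p + b ^ p := fun a b => by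
    obtain ⟨r, hr⟩ := exists_add_pow_prime_eq hp.out a b
    rw [hr, hpT, zero_mul, zero_mul, zero_mul, add_zero]
  let f : B →+ C →+ B ⊗[A] C := AddMonoidHom.mk' (fun b => AddMonoidHom.mk' (fun c => rt hB b ⊗ₜ rt hC c)
      fun c c' => by simp [rt_add, tmul_add]) fun b b' => by ext c; simp [rt_add, add_tmul]
  let ψ := TensorProduct.liftAddHom f fun a b c => by
    have e1 : ∀ (D : Type u) [CommRing D] [Algebra A D] (hD : Perf p D) (x : D),
        rt hD (a • x) = rt hA a • rt hD x := fun D _ _ hD x =>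
      inj hD (by rw [rt_pow, smul_pow, rt_pow, rt_pow])
    show rt hB (a • b) ⊗ₜ[A] rt hC c = rt hB b ⊗ₜ[A] rt hC (a • c)
    rw [e1 B hB, e1 C hC, smul_tmul]
  have hψ : ∀ w, ψ w ^ p = w := by
    intro w
    induction w using TensorProduct.induction_on with
    | zero => rw [map_zero, zero_pow hp.out.ne_zero]
    | add a b ha hb => rw [map_add, hadd, ha, hb]
    | tmul b c =>
      show (rt hB b ⊗ₜ[A] rt hC c) ^ p = _
      rw [Algebra.TensorProduct.tmul_pow, rt_pow, rt_pow]
  have hψg : ∀ w, ψ (mulL g C w) = mulL g' C (ψ w) := by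
    intro w
    induction w using TensorProduct.induction_on with
    | zero => simp
    | add a b ha hb => simp only [map_add, ha, hb]
    | tmul b c =>
      show rt hB (g * b) ⊗ₜ[A] rt hC c = (g' * rt hB b) ⊗ₜ[A] rt hC c
      rw [rt_mul, inj hB ((rt_pow hB g).trans hg.symm)]
  have hm : ∀ (e : B) (w : B ⊗[A] C), mulL e C w = (e ⊗ₜ[A] (1 : C)) * w := by
    intro e w
    induction w using TensorProduct.induction_on with
    | zero => simp
    | add a b ha hb => simp only [map_add, mul_add, ha, hb]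
    | tmul b c => rw [mulL_tmul, Algebra.TensorProduct.tmul_mul_tmul, one_mul]
  have h0 : mulL g' C (ψ z) = 0 := by rw [← hψg, hz, map_zero]
  rw [hm] at h0 ⊢
  rw [← hψ z, ← Nat.succ_pred_eq_of_pos hp.out.pos, pow_succ', ← mul_assoc, h0, zero_mul]

end tensor

section acyclic

variable {A : Type u} [CommRing A] {P : ℕ → Type u} [∀ i, AddCommGroup (P i)] [∀ i, Module A (P i)]
  (d : ∀ i, P (i + 1) →ₗ[A] P i)

/-- `M ⊗ P` is exact in positive degrees. -/
def Acyclic (M : Type u) [AddCommGroup M] [Module A M] : Prop :=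
  ∀ i (y : M ⊗[A] P (i + 1)), (d i).lTensor M y = 0 → ∃ w, (d (i + 1)).lTensor M w = y

theorem acyclic_of_flat (hd : ∀ i, Function.Exact (d (i + 1)) (d i)) (M : Type u) [AddCommGroup M] [Module A M]
    [Module.Flat A M] : Acyclic d M := fun i y hy => (Module.Flat.lTensor_exact M (hd i) y).1 hy

theorem acyclic_of_bijective {M M' : Type u} [AddCommGroup M] [Module A M] [AddCommGroup M'] [Module A M']
    (f : M →ₗ[A] M') (hf : Function.Bijective f) (h : Acyclic d M) : Acyclic d M' := by
  intro i y hy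
  let e := LinearEquiv.ofBijective f hf
  have c : ∀ {N N' : Type u} [AddCommGroup N] [Module A N] [AddCommGroup N'] [Module A N'] (g : N →ₗ[A] N')
      (z : M ⊗[A] N), g.lTensor M' (e.rTensor N z) = e.rTensor N' (g.lTensor M z) := fun g z => by
    show g.lTensor M' (f.rTensor _ z) = f.rTensor _ (g.lTensor M z)
    rw [← LinearMap.comp_apply, ← LinearMap.comp_apply, LinearMap.lTensor_comp_rTensor,
      LinearMap.rTensor_comp_lTensor]
  obtain ⟨y, rfl⟩ := (e.rTensor (P (i + 1))).surjective y
  rw [c] at hy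
  obtain ⟨w, rfl⟩ := h i y ((e.rTensor _).map_eq_zero_iff.1 hy)
  exact ⟨_, c _ w⟩

variable {p : ℕ} [hp : Fact p.Prime] [∀ i, Module.Flat A (P i)] {C : Type u} [CommRing C] [Algebra A C]
  (ε : P 0 →ₗ[A] C)

set_option maxHeartbeats 400000 in
/-- Acyclicity passes to the quotient by all the roots of an element. -/
theorem acyclic_step (hdd : ∀ i, (d i).comp (d (i + 1)) = 0) (hε : Function.Exact (d 0) ε) (hεs : Function.Surjective ε) (hA : Perf p A) (hC : Perf p C)
    {B B' : Type u} [CommRing B] [Algebra A B] [CommRing B'] [Algebra A B'] (hB : Perf p B)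
    (π : B →ₐ[A] B') (hπ : Function.Surjective π) (g : ℕ → B) (hg : ∀ n, g (n + 1) ^ p = g n)
    (hπg : ∀ n, π (g n) = 0) (hker : ∀ b, π b = 0 → ∃ n c, b = g n * c) (hB' : Acyclic d B) :
    Acyclic d B' := by
  have hdvd : ∀ n m, n ≤ m → g m ∣ g n := by
    intro n m hnm
    induction hnm with
    | refl => exact dvd_rfl
    | step h ih =>
      rename_i m
      refine dvd_trans ?_ ih
      rw [← hg m]
      exact dvd_pow_self _ hp.out.ne_zero
  -- the kernel of the projection
  have hkerT : ∀ (N : Type u) [AddCommGroup N] [Module A N] (z : B ⊗[A] N),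
      π.toLinearMap.rTensor N z = 0 → ∃ n c, z = mulL (g n) N c := by
    intro N _ _ z hz
    obtain ⟨w, rfl⟩ := (rTensor_exact N (LinearMap.exact_subtype_ker_map π.toLinearMap) hπ z).1 hz
    induction w using TensorProduct.induction_on with
    | zero => exact ⟨0, 0, by simp⟩
    | add a b ha hb =>
      obtain ⟨n, x, hx⟩ := ha (by simp [← LinearMap.rTensor_comp_apply, LinearMap.comp_ker_subtype])
      obtain ⟨m, y, hy⟩ := hb (by simp [← LinearMap.rTensor_comp_apply, LinearMap.comp_ker_subtype])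
      obtain ⟨r, hr⟩ := hdvd n (max n m) (le_max_left n m)
      obtain ⟨s, hs⟩ := hdvd m (max n m) (le_max_right n m)
      exact ⟨max n m, mulL r N x + mulL s N y, by rw [map_add, map_add, hx, hy, mulL_mul, mulL_mul, ← hr, ← hs]⟩
    | tmul b q =>
      obtain ⟨n, c, hc⟩ := hker b.1 b.2
      exact ⟨n, c ⊗ₜ q, by rw [mulL_tmul, ← hc]; rfl⟩
  have hπm : ∀ (N : Type u) [AddCommGroup N] [Module A N] (n : ℕ) (z : B ⊗[A] N),
      π.toLinearMap.rTensor N (mulL (g n) N z) = 0 := by
    intro N _ _ n z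
    have h0 : π.toLinearMap.comp (LinearMap.mulLeft A (g n)) = 0 :=
      LinearMap.ext fun b => by simp [hπg]
    unfold mulL
    rw [← LinearMap.rTensor_comp_apply, h0, LinearMap.rTensor_zero, LinearMap.zero_apply]
  have hc : ∀ {N N' : Type u} [AddCommGroup N] [Module A N] [AddCommGroup N'] [Module A N'] (f : N →ₗ[A] N')
      (z : B ⊗[A] N), f.lTensor B' (π.toLinearMap.rTensor N z) = π.toLinearMap.rTensor N' (f.lTensor B z) :=
    fun f z => by
      rw [← LinearMap.comp_apply, ← LinearMap.comp_apply, LinearMap.lTensor_comp_rTensor,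
        LinearMap.rTensor_comp_lTensor]
  intro i y hy
  obtain ⟨y, rfl⟩ := LinearMap.rTensor_surjective (P (i + 1)) (show Function.Surjective π.toLinearMap from hπ) y
  rw [hc] at hy
  obtain ⟨n, w, hw⟩ := hkerT _ _ hy
  let w' := mulL (g (n + 1) ^ (p - 1)) (P i) w
  have hw' : (d i).lTensor B y = mulL (g (n + 1)) (P i) w' := by
    rw [mulL_mul, ← pow_succ', Nat.sub_add_cancel hp.out.one_le, hg, hw]
  have hroot : ∀ {N : Type u} [AddCommGroup N] [Module A N] (x : B ⊗[A] N),
      mulL (g (n + 1)) N x = 0 → mulL (A := A) (g (n + 1) ^ (p - 1)) N x = 0 := by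
    intro N _ _ x hx
    have : p - 1 = (p - 2) + 1 := by have := hp.out.two_le; omega
    rw [this, pow_succ, ← mulL_mul, hx, map_zero]
  have key : ∃ v, (d i).lTensor B v = w' := by
    cases i with
    | zero =>
      refine (lTensor_exact B hε hεs w').1 ?_
      rw [mulL_lTensor]
      refine hroot _ (mulL_root_eq_zero hA hB hC (hg n) _ ?_)
      rw [← mulL_lTensor, ← hw]
      exact (lTensor_exact B hε hεs _).2 ⟨y, rfl⟩
    | succ j =>
      refine hB' j w' ?_
      rw [mulL_lTensor]
      refine hroot _ (mulL_eq_zero_of_flat (fun b hb => annihilator_root hB (hg n) hb) _ ?_)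
      rw [← mulL_lTensor, ← hw, ← LinearMap.comp_apply, ← LinearMap.lTensor_comp]
      rw [hdd j, LinearMap.lTensor_zero, LinearMap.zero_apply]
  obtain ⟨v, hv⟩ := key
  obtain ⟨x, hx⟩ := hB' i (y - mulL (g (n + 1)) (P (i + 1)) v) (by rw [map_sub, mulL_lTensor, hv, hw', sub_self])
  refine ⟨π.toLinearMap.rTensor _ x, ?_⟩
  rw [hc, hx, map_sub, hπm, sub_zero]

end acyclic

section closure

variable {p : ℕ} [hp : Fact p.Prime] {A : Type u} [CommRing A] [CharP A p] (hA : Perf p A) (σ : Type u)

/-- The perfect polynomial algebra. -/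
abbrev PC := PerfectClosure (MvPolynomial σ A) p

noncomputable instance : Algebra A (PC (p := p) (A := A) σ) :=
  ((PerfectClosure.of (MvPolynomial σ A) p).comp MvPolynomial.C).toAlgebra

theorem perf_PC : Perf p (PC (p := p) (A := A) σ) :=
  ⟨CharP.cast_eq_zero _ p, PerfectRing.bijective_frobenius⟩

include hA in
theorem flat_PC : Module.Flat A (PC (p := p) (A := A) σ) := by
  let R := MvPolynomial σ A
  let T := PC (p := p) (A := A) σ
  refine Module.Flat.iff_forall_isTrivialRelation.2 fun {l f x} h => ?_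
  have hrep : ∀ z : T, ∃ (n : ℕ) (r : R), z ^ (p ^ n) = PerfectClosure.of R p r := by
    intro z
    obtain ⟨⟨n, r⟩, rfl⟩ := PerfectClosure.mk_surjective R p z
    refine ⟨n, r, ?_⟩
    rw [← PerfectClosure.iterate_frobenius_mk R p n r, iterate_frobenius]
  choose n r hr using fun i => hrep (x i)
  let N := ∑ i, n i
  have hr' : ∀ i, x i ^ (p ^ N) = PerfectClosure.of R p (r i ^ (p ^ (N - n i))) := fun i => by
    rw [map_pow, ← hr, ← pow_mul, ← pow_add, Nat.add_sub_cancel' (Finset.single_le_sum (fun _ _ => Nat.zero_le _)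
      (Finset.mem_univ i))]
  have hsum : ∀ (m : ℕ) (z : Fin l → T), (∑ i, z i) ^ (p ^ m) = ∑ i, z i ^ (p ^ m) := fun m z =>
    sum_pow_char_pow p m _ _
  have h0 : PerfectClosure.of R p (∑ i, (f i ^ (p ^ N)) • r i ^ (p ^ (N - n i))) = 0 := by
    rw [map_sum, ← zero_pow (pow_ne_zero N hp.out.ne_zero), ← h, hsum]
    refine Finset.sum_congr rfl fun i _ => ?_
    rw [Algebra.smul_def, Algebra.smul_def, map_mul, mul_pow, hr', MvPolynomial.algebraMap_eq, ← map_pow (algebraMap A T)]
    rfl
  obtain ⟨M, hM⟩ : ∃ M, (∑ i, (f i ^ (p ^ N)) • r i ^ (p ^ (N - n i))) ^ (p ^ M) = 0 := by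
    rw [PerfectClosure.of_apply, PerfectClosure.zero_def, PerfectClosure.mk_eq_iff] at h0
    obtain ⟨M, hM⟩ := h0
    exact ⟨M, by simpa [iterate_frobenius] using hM⟩
  rw [sum_pow_char_pow] at hM
  simp only [smul_pow, ← pow_mul, ← pow_add] at hM
  obtain ⟨k, b, y, hby, hb⟩ := Module.Flat.isTrivialRelation_of_sum_smul_eq_zero hM
  let q := N + M
  refine ⟨k, fun i j => (rt hA)^[q] (b i j), fun j => (rt (perf_PC σ))^[q] (PerfectClosure.of R p (y j)),
    fun i => inj_pow (perf_PC σ) q ?_, fun j => inj_pow hA q ?_⟩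
  · have hb2 : r i ^ p ^ (N - n i + M) = ∑ j, b i j • y j := hby i
    have e : ∀ (a : A) (z : T), (a • z) ^ (p ^ q) = a ^ (p ^ q) • z ^ (p ^ q) := fun a z => smul_pow _ _ _
    rw [sum_pow_char_pow, show p ^ q = p ^ N * p ^ M from pow_add p N M, pow_mul, hr', ← map_pow, ← pow_mul, ← pow_add,
      hb2, map_sum]
    refine Finset.sum_congr rfl fun j _ => ?_
    rw [← pow_add p N M, show p ^ (N + M) = p ^ q from rfl, e, iterate_rt_pow, iterate_rt_pow, Algebra.smul_def, Algebra.smul_def, map_mul,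
      MvPolynomial.algebraMap_eq]
    rfl
  · rw [sum_pow_char_pow, zero_pow (pow_ne_zero _ hp.out.ne_zero), ← hb j]
    refine Finset.sum_congr rfl fun i _ => ?_
    rw [mul_pow, iterate_rt_pow]

/-- Every perfect algebra is a quotient of a perfect polynomial algebra. -/
theorem exists_surjective_PC {B : Type u} [CommRing B] [Algebra A B] [Nontrivial B] (hB : Perf p B) :
    ∃ θ : PC (p := p) (A := A) B →ₐ[A] B, Function.Surjective θ := by
  haveI : CharP B p := (CharP.charP_iff_prime_eq_zero hp.out).2 hB.char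
  haveI : PerfectRing B p := ⟨hB.bij⟩
  let θ₀ := PerfectClosure.lift (MvPolynomial B A) p B (MvPolynomial.aeval id).toRingHom
  have hof : ∀ r, θ₀ (PerfectClosure.of _ p r) = MvPolynomial.aeval id r := fun r => rfl
  exact ⟨AlgHom.mk θ₀ fun a => (hof (MvPolynomial.C a)).trans (MvPolynomial.aeval_C _ a),
    fun b => ⟨PerfectClosure.of _ p (MvPolynomial.X b), (hof _).trans (MvPolynomial.aeval_X _ b)⟩⟩

end closure

section main

variable {A : Type u} [CommRing A] {P : ℕ → Type u} [∀ i, AddCommGroup (P i)] [∀ i, Module A (P i)]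
  [∀ i, Module.Flat A (P i)] (d : ∀ i, P (i + 1) →ₗ[A] P i) {p : ℕ} [hp : Fact p.Prime]
  {C : Type u} [CommRing C] [Algebra A C] (ε : P 0 →ₗ[A] C)

/-- Tensoring a flat resolution of a perfect algebra with a perfect algebra stays exact. -/
theorem acyclic_of_perf [CharP A p] (hd : ∀ i, Function.Exact (d (i + 1)) (d i)) (hε : Function.Exact (d 0) ε)
    (hεs : Function.Surjective ε) (hA : Perf p A) (hC : Perf p C) (B : Type u) [CommRing B] [Algebra A B]
    (hB : Perf p B) : Acyclic d B := by
  classical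
  rcases subsingleton_or_nontrivial B with hs | hs
  · intro i y _
    exact ⟨0, Subsingleton.elim _ _⟩
  obtain ⟨θ, hθ⟩ := exists_surjective_PC (p := p) (A := A) hB
  let T := PC (p := p) (A := A) B
  have hT : Perf p T := perf_PC B
  haveI := flat_PC hA B
  haveI := isReduced hB
  haveI := isReduced hT
  let J : Finset T → Ideal T := fun S => (Ideal.span (S : Set T)).radical
  have hperf : ∀ S, Perf p (T ⧸ J S) := fun S => by
    refine ⟨by rw [← map_natCast (Ideal.Quotient.mk (J S)), hT.char, map_zero], fun a b hab => ?_, fun a => ?_⟩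
    · obtain ⟨a, rfl⟩ := Ideal.Quotient.mk_surjective a
      obtain ⟨b, rfl⟩ := Ideal.Quotient.mk_surjective b
      refine Ideal.Quotient.eq.2 ((Ideal.radical_isRadical _) ⟨p, ?_⟩)
      haveI : CharP T p := inferInstance
      rw [sub_pow_char]
      exact Ideal.Quotient.eq.1 (by simpa using hab)
    · obtain ⟨a, rfl⟩ := Ideal.Quotient.mk_surjective a
      exact ⟨Ideal.Quotient.mk _ (rt hT a), by simp [← map_pow, rt_pow]⟩
  have hS : ∀ S : Finset T, Acyclic d (T ⧸ J S) := by
    intro S
    induction S using Finset.induction with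
    | empty =>
      refine acyclic_of_bijective d (Ideal.Quotient.mkₐ A (J ∅)).toLinearMap ⟨?_, Ideal.Quotient.mk_surjective⟩
        (acyclic_of_flat d hd T)
      refine (injective_iff_map_eq_zero (Ideal.Quotient.mk (J ∅))).2 fun x hx => ?_
      rw [Ideal.Quotient.eq_zero_iff_mem] at hx
      obtain ⟨m, hm⟩ := hx
      simp only [Finset.coe_empty, Ideal.span_empty, Ideal.mem_bot] at hm
      exact IsNilpotent.eq_zero ⟨m, hm⟩
    | insert s S hs ih =>
      have hle : J S ≤ J (insert s S) := Ideal.radical_mono (Ideal.span_mono (by simp))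
      refine acyclic_step d ε (fun i => (hd i).linearMap_comp_eq_zero) hε hεs hA hC (hperf S) (Ideal.Quotient.factorₐ A hle)
        (Ideal.Quotient.factor_surjective hle) (fun n => (rt (hperf S))^[n] (Ideal.Quotient.mk _ s))
        (fun n => by rw [Function.iterate_succ_apply', rt_pow]) (fun n => ?_) (fun b hb => ?_) ih
      · haveI := isReduced (hperf (insert s S))
        refine IsNilpotent.eq_zero ⟨p ^ n, ?_⟩
        rw [← map_pow, iterate_rt_pow]
        exact Ideal.Quotient.eq_zero_iff_mem.2 (Ideal.le_radical (Ideal.subset_span (by simp)))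
      · obtain ⟨b, rfl⟩ := Ideal.Quotient.mk_surjective b
        obtain ⟨m, hm⟩ : b ∈ J (insert s S) := Ideal.Quotient.eq_zero_iff_mem.1 hb
        rw [Finset.coe_insert, Ideal.mem_span_insert] at hm
        obtain ⟨a, z, hz, hm⟩ := hm
        refine ⟨m, (rt (hperf S))^[m] (Ideal.Quotient.mk _ (b ^ (p ^ m - m) * a)), inj_pow (hperf S) m ?_⟩
        rw [mul_pow, iterate_rt_pow, iterate_rt_pow, ← map_pow, ← map_mul]
        refine Ideal.Quotient.eq.2 ?_
        have : b ^ p ^ m - s * (b ^ (p ^ m - m) * a) = b ^ (p ^ m - m) * z := by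
          rw [← Nat.sub_add_cancel (Nat.lt_pow_self hp.out.one_lt).le, pow_add, hm, Nat.add_sub_cancel]
          ring
        rw [this]
        exact Ideal.mul_mem_left _ _ (Ideal.le_radical hz)
  intro i y hy
  obtain ⟨y, rfl⟩ := LinearMap.rTensor_surjective (P (i + 1)) (show Function.Surjective θ.toLinearMap from hθ) y
  have hc : ∀ {X Y : Type u} [AddCommGroup X] [Module A X] [AddCommGroup Y] [Module A Y] (f : X →ₗ[A] Y)
      {N N' : Type u} [AddCommGroup N] [Module A N] [AddCommGroup N'] [Module A N'] (g : N →ₗ[A] N')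
      (z : X ⊗[A] N), g.lTensor Y (f.rTensor N z) = f.rTensor N' (g.lTensor X z) := fun f _ _ _ _ _ _ g z => by
    rw [← LinearMap.comp_apply, ← LinearMap.comp_apply, LinearMap.lTensor_comp_rTensor,
      LinearMap.rTensor_comp_lTensor]
  rw [hc] at hy
  obtain ⟨w, hw⟩ := (rTensor_exact (P i) (LinearMap.exact_subtype_ker_map θ.toLinearMap) hθ _).1 hy
  have hfin : ∀ w : LinearMap.ker θ.toLinearMap ⊗[A] P i, ∃ S : Finset T, (∀ s ∈ S, θ s = 0) ∧
      ∀ S', S ⊆ S' → (Ideal.Quotient.mkₐ A (J S')).toLinearMap.rTensor (P i)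
        ((LinearMap.ker θ.toLinearMap).subtype.rTensor (P i) w) = 0 := by
    intro w
    induction w using TensorProduct.induction_on with
    | zero => exact ⟨∅, by simp, by simp⟩
    | add a b ha hb =>
      obtain ⟨S₁, h₁, h₁'⟩ := ha
      obtain ⟨S₂, h₂, h₂'⟩ := hb
      refine ⟨S₁ ∪ S₂, fun s hs => (Finset.mem_union.1 hs).elim (h₁ s) (h₂ s), fun S' hS' => ?_⟩
      rw [map_add, map_add, h₁' _ (Finset.union_subset_left hS'), h₂' _ (Finset.union_subset_right hS'), add_zero]
    | tmul b q =>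
      refine ⟨{b.1}, fun s hs => by rw [Finset.mem_singleton.1 hs]; exact b.2, fun S' hS' => ?_⟩
      show (Ideal.Quotient.mk (J S') b.1) ⊗ₜ[A] q = 0
      rw [Ideal.Quotient.eq_zero_iff_mem.2 (Ideal.le_radical (Ideal.subset_span (Finset.singleton_subset_iff.1 hS'))),
        zero_tmul]
  obtain ⟨S, hS₀, hS₁⟩ := hfin w
  have hSθ : J S ≤ RingHom.ker θ := (RingHom.ker_isRadical_iff_reduced_of_surjective hθ).2 inferInstance
    |>.radical_le_iff.2 (Ideal.span_le.2 hS₀)
  let π : (T ⧸ J S) →ₐ[A] B := Ideal.Quotient.liftₐ (J S) θ hSθ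
  obtain ⟨x, hx⟩ := hS S i ((Ideal.Quotient.mkₐ A (J S)).toLinearMap.rTensor _ y)
    (by rw [hc, ← hw, hS₁ S le_rfl])
  refine ⟨π.toLinearMap.rTensor _ x, ?_⟩
  rw [hc, hx, ← LinearMap.rTensor_comp_apply]
  congr 2

end main

end Groth.Agent.PerfTor23
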